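import Groth.Agent.FEtFF.ExtendNormal
import Groth.Agent.FEtFF.BiratPurity
import Groth.Agent.RatExtLib.DimOne
import Groth.Agent.Et18.EtaleLocalRing

/-!
# Birational invariance of finite étale covers of proper regular schemes
-/

set_option autoImplicit false
set_option linter.style.haveILetI false
set_option backward.isDefEq.respectTransparency.types false
set_option backward.isDefEq.respectTransparency false
universe u

open CategoryTheory CategoryTheory.Limits AlgebraicGeometry TopologicalSpace

namespace Groth.Agent.BiratPi1H10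

variable {X : Scheme.{u}} [IsLocallyNoetherian X]

/-- Restriction to a dense open of a regular scheme is fully faithful. -/
theorem restrict_dense (hX : ∀ x : X, IsRegularLocalRing (X.presheaf.stalk x))
    (U : X.Opens) (hU : Dense (U : Set X)) :
    (FEt.restrict U.ι).Full ∧ (FEt.restrict U.ι).Faithful := by
  have key : ∀ (Y : FEt.Cat X) (O : X.Opens),
      Function.Injective ((pullback.fst Y.hom U.ι).app (Y.hom ⁻¹ᵁ O)) ∧
      ∀ z, (Y.hom.app O ≫ (pullback.fst Y.hom U.ι).app (Y.hom ⁻¹ᵁ O)).hom.IsIntegralElem z →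
        z ∈ Set.range ((pullback.fst Y.hom U.ι).app (Y.hom ⁻¹ᵁ O)) := by
    intro Y O
    haveI : IsFinite Y.hom := Y.prop.1
    haveI : Etale Y.hom := Y.prop.2
    let Z := Y.left
    let h : Z ⟶ X := Y.hom
    haveI : IsLocallyNoetherian Z := LocallyOfFiniteType.isLocallyNoetherian h
    have hreg : ∀ z : Z, IsRegularLocalRing (Z.presheaf.stalk z) := fun z =>
      (Et18.isRegularLocalRing_stalk_iff_of_etale h z).2 (hX _)
    let V : Z.Opens := h ⁻¹ᵁ U
    have hdom : ∀ z : Z, z ∉ V → IsDomain (Z.presheaf.stalk z) := fun z _ =>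
      haveI := hreg z; CAlgH3.isDomain_of_isRegularLocalRing _
    have hnor : ∀ z : Z, z ∉ V → IsIntegrallyClosed (Z.presheaf.stalk z) := fun z _ =>
      haveI := hreg z; CAlgH3.isIntegrallyClosed_of_regular _
    have hgen : ∀ η : Z, (∀ z : Z, z ⤳ η → z = η) → η ∈ V := fun η hη => by
      refine FEtFF.ExtendNormal.mem_of_dense_of_minimal hU fun z hz => ?_
      obtain ⟨w, hw, rfl⟩ := Flat.generalizingMap h hz
      rw [hη w hw]
    let p := pullback.fst h U.ι
    let W := h ⁻¹ᵁ O
    have hp : p.opensRange = V := by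
      rw [Scheme.Hom.opensRange_pullbackFst, Scheme.Opens.opensRange_ι]
    haveI : IsIso (p.app (W ⊓ V)) := p.isIso_app _ (hp.symm ▸ inf_le_right)
    have hpre : p ⁻¹ᵁ W = p ⁻¹ᵁ (W ⊓ V) := by
      ext x
      exact ⟨fun hx => ⟨hx, hp.le ⟨x, rfl⟩⟩, fun hx => hx.1⟩
    have hfac : p.app W = Z.presheaf.map (homOfLE (inf_le_left : W ⊓ V ≤ W)).op ≫ p.app (W ⊓ V) ≫
        (pullback h U.ι).presheaf.map (eqToHom hpre).op := by
      rw [Scheme.Hom.naturality_assoc, ← Functor.map_comp]
      conv_lhs => rw [← Category.comp_id (p.app W), ← CategoryTheory.Functor.map_id]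
      rfl
    let m := p.app (W ⊓ V) ≫ (pullback h U.ι).presheaf.map (eqToHom hpre).op
    haveI : IsIso m := inferInstance
    have hm := ConcreteCategory.bijective_of_isIso m
    refine ⟨?_, fun z hz => ?_⟩
    · show Function.Injective (p.app W)
      rw [hfac]
      exact hm.1.comp (FEtFF.ExtendNormal.injective_res V hdom hgen W)
    · obtain ⟨s, rfl⟩ := hm.2 z
      obtain ⟨P, hP, hP0⟩ := hz
      have hs : (Z.presheaf.map (homOfLE (inf_le_left : W ⊓ V ≤ W)).op).hom.IsIntegralElem s := by
        refine ⟨P.map (h.app O).hom, hP.map _, hm.1 ?_⟩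
        rw [map_zero, Polynomial.eval₂_map, Polynomial.hom_eval₂]
        refine Eq.trans ?_ hP0
        congr 1
        show _ = (h.app O ≫ p.app W).hom
        rw [hfac]
        rfl
      obtain ⟨t, ht⟩ := FEtFF.ExtendNormal.exists_extension_of_isIntegral V hdom hgen hnor W s hs
      refine ⟨t, ?_⟩
      show p.app W t = m s
      rw [hfac, CommRingCat.comp_apply, ht]
  exact FEtFF.restrict_full_faithful U.ι (fun Y O _ => (key Y O).1) fun Y O _ => (key Y O).2

omit [IsLocallyNoetherian X] in
/-- Restriction to an open containing all points of codimension at most one of a regular scheme. -/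
theorem restrict_isEquivalence_codimTwo [IsNoetherian X] (hX : ∀ x : X, IsRegularLocalRing (X.presheaf.stalk x))
    (U : X.Opens) (hU : Dense (U : Set X))
    (hdim : ∀ x : X, ringKrullDim (X.presheaf.stalk x) ≤ 1 → x ∈ U) : (FEt.restrict U.ι).IsEquivalence := by
  obtain ⟨h1, h2⟩ := restrict_dense hX U hU
  haveI := FEtFF.PurityExtend.essSurj_of_purity_noetherian U fun x hx => by
    haveI := hX x
    refine FEtFF.BiratPurity.purityHolds_of_regular _ ?_
    have hlt := mt (hdim x) hx
    revert hlt
    rcases ringKrullDim (X.presheaf.stalk x) with _ | n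
    · intro h; exact absurd bot_le h
    · intro h
      have : ¬ n ≤ (1 : ℕ∞) := fun h' => h (WithBot.coe_le_coe.mpr h')
      exact WithBot.coe_le_coe.mpr
        (by simpa [one_add_one_eq_two] using Order.add_one_le_of_lt (not_le.1 this))
  exact { }

variable {Y : Scheme.{u}} {S : Scheme.{u}}

omit [IsLocallyNoetherian X] in
/-- A morphism on a dense open to a proper scheme extends in codimension one, and pullback along it gives
a functor of finite étale covers. -/
theorem exists_functor [IsNoetherian X] (hX : ∀ x : X, IsRegularLocalRing (X.presheaf.stalk x))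
    (f : X ⟶ S) (g : Y ⟶ S) [IsProper g]
    (U : X.Opens) (hU : Dense (U : Set X)) (φ : (U : Scheme.{u}) ⟶ Y) (hφ : φ ≫ g = U.ι ≫ f) :
    ∃ F : FEt.Cat Y ⥤ FEt.Cat X, Nonempty (F ⋙ FEt.restrict U.ι ≅ FEt.restrict φ) := by
  haveI : ∀ x : X, _root_.IsReduced (X.presheaf.stalk x) := fun x =>
    haveI := hX x
    haveI := CAlgH3.isDomain_of_isRegularLocalRing (X.presheaf.stalk x)
    inferInstance
  haveI : IsReduced X := isReduced_of_isReduced_stalk X
  let q := pullback.fst f g
  let s : (U : Scheme.{u}) ⟶ pullback f g := pullback.lift U.ι φ hφ.symm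
  obtain ⟨U', hle, s', hs', hres, hdim⟩ := RatExtLib.exists_extension_dimOne (fun x _ => hX x) q
    q.isClosedMap U hU s (pullback.lift_fst _ _ _)
  haveI := restrict_isEquivalence_codimTwo hX U' (hU.mono hle) hdim
  let E := (FEt.restrict U'.ι).asEquivalence
  let ψ := s' ≫ pullback.snd f g
  have hψ : X.homOfLE hle ≫ ψ = φ := by
    rw [← Category.assoc, hres]
    exact pullback.lift_snd _ _ _
  refine ⟨FEt.restrict ψ ⋙ E.inverse, ⟨?_⟩⟩
  let e1 : FEt.restrict U.ι ≅ FEt.restrict U'.ι ⋙ FEt.restrict (X.homOfLE hle) :=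
    MorphismProperty.Over.pullbackComp (P := FEt.prop) (Q := ⊤) (X.homOfLE hle) U'.ι U.ι (X.homOfLE_ι hle).symm
  let e2 : FEt.restrict φ ≅ FEt.restrict ψ ⋙ FEt.restrict (X.homOfLE hle) :=
    MorphismProperty.Over.pullbackComp (P := FEt.prop) (Q := ⊤) (X.homOfLE hle) ψ φ hψ.symm
  exact Functor.isoWhiskerLeft _ e1 ≪≫ Functor.associator _ _ _ ≪≫
    Functor.isoWhiskerLeft (FEt.restrict ψ) ((Functor.associator _ _ _).symm ≪≫
      Functor.isoWhiskerRight E.counitIso _ ≪≫ Functor.leftUnitor _) ≪≫ e2.symm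

end Groth.Agent.BiratPi1H10
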